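import Mathlib
import Cfsg.Agent.Lib.H26.SupCard

/-! Bounding the order of a subgroup generated step by step. -/

set_option autoImplicit false

namespace H86.CardStep

variable {G : Type*} [Group G] [Finite G]

/-- `x` normalizes `M` and `x ^ n ∈ M`: then `|⟨M, x⟩| ≤ n |M|`. -/
theorem card_step (M : Subgroup G) (x : G) {n : ℕ} (hn : 0 < n) (hx : x ^ n ∈ M)
    (hnorm : ∀ m ∈ M, x * m * x⁻¹ ∈ M) :
    Nat.card (M ⊔ Subgroup.zpowers x : Subgroup G) ≤ n * Nat.card M := by
  have hN : Subgroup.zpowers x ≤ Subgroup.normalizer (M : Set G) := by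
    rw [Subgroup.zpowers_le, Subgroup.mem_normalizer_iff]
    intro h
    constructor
    · exact hnorm h
    · intro hh
      -- the map `m ↦ x m x⁻¹` is a bijection of the finite set `M`
      let f : M → M := fun m => ⟨x * m * x⁻¹, hnorm m m.2⟩
      have hinj : Function.Injective f := by
        intro a b hab
        have := congrArg Subtype.val hab
        apply Subtype.ext
        have h2 : x * (a : G) * x⁻¹ = x * b * x⁻¹ := this
        exact mul_left_cancel (mul_right_cancel h2)
      obtain ⟨m, hm⟩ := (Finite.injective_iff_surjective.mp hinj) ⟨x * h * x⁻¹, hh⟩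
      have h2 : x * (m : G) * x⁻¹ = x * h * x⁻¹ := congrArg Subtype.val hm
      have h3 : (m : G) = h := mul_left_cancel (mul_right_cancel h2)
      rw [← h3]
      exact m.2
  -- relative index
  set W := M ⊔ Subgroup.zpowers x with hW
  have hle : M ≤ W := le_sup_left
  have hWn : W ≤ Subgroup.normalizer (M : Set G) := sup_le Subgroup.le_normalizer hN
  have hMn : (M.subgroupOf W).Normal := Subgroup.normal_subgroupOf_of_le_normalizer hWn
  have hcard : Nat.card W = Nat.card (W ⧸ M.subgroupOf W) * Nat.card (M.subgroupOf W) :=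
    Subgroup.card_eq_card_quotient_mul_card_subgroup _
  have hcM : Nat.card (M.subgroupOf W) = Nat.card M :=
    Nat.card_congr (Subgroup.subgroupOfEquivOfLe hle).toEquiv
  rw [hcard, hcM]
  apply Nat.mul_le_mul_right
  -- the quotient is generated by the image of `x`
  let xx : W := ⟨x, Subgroup.mem_sup_right (Subgroup.mem_zpowers x)⟩
  let π := QuotientGroup.mk' (M.subgroupOf W)
  have htop : Subgroup.zpowers (π xx) = ⊤ := by
    rw [eq_top_iff]
    intro w _
    obtain ⟨⟨w, hw⟩, rfl⟩ := QuotientGroup.mk'_surjective (M.subgroupOf W) w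
    have : (Subgroup.zpowers (π xx)).comap π = ⊤ := by
      have h1 : W ≤ ((Subgroup.zpowers (π xx)).comap π).map W.subtype := by
        refine sup_le ?_ ?_
        · intro m hm
          refine ⟨⟨m, hle hm⟩, ?_, rfl⟩
          show π ⟨m, hle hm⟩ ∈ Subgroup.zpowers (π xx)
          have : π ⟨m, hle hm⟩ = 1 := (QuotientGroup.eq_one_iff _).mpr hm
          rw [this]; exact one_mem _
        · rw [Subgroup.zpowers_le]
          exact ⟨xx, Subgroup.mem_zpowers _, rfl⟩
      rw [eq_top_iff]
      rintro ⟨v, hv⟩ _
      obtain ⟨u, hu, huv⟩ := h1 hv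
      have : u = ⟨v, hv⟩ := Subtype.ext huv
      rw [← this]; exact hu
    have h2 : (⟨w, hw⟩ : W) ∈ (Subgroup.zpowers (π xx)).comap π := by rw [this]; trivial
    exact h2
  have h1 : Nat.card (W ⧸ M.subgroupOf W) = Nat.card (Subgroup.zpowers (π xx)) := by
    rw [htop, Subgroup.card_top]
  rw [h1, Nat.card_zpowers]
  apply orderOf_le_of_pow_eq_one hn
  rw [← map_pow]
  exact (QuotientGroup.eq_one_iff _).mpr hx

/-- two finite groups with generators satisfying a common bound are isomorphic -/
theorem iso_of_bound {A B : Type*} [Group A] [Group B] [Finite A] [Finite B] (D : Subgroup (A × B))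
    (hA : Function.Surjective ((MonoidHom.fst A B).comp D.subtype))
    (hB : Function.Surjective ((MonoidHom.snd A B).comp D.subtype))
    (hDA : Nat.card D ≤ Nat.card A) (hDB : Nat.card D ≤ Nat.card B) : Nonempty (A ≃* B) := by
  have h1 : Function.Bijective ((MonoidHom.fst A B).comp D.subtype) := by
    rw [Nat.bijective_iff_surjective_and_card]
    exact ⟨hA, le_antisymm hDA (Nat.card_le_card_of_surjective _ hA)⟩
  have h2 : Function.Bijective ((MonoidHom.snd A B).comp D.subtype) := by
    rw [Nat.bijective_iff_surjective_and_card]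
    exact ⟨hB, le_antisymm hDB (Nat.card_le_card_of_surjective _ hB)⟩
  exact ⟨(MulEquiv.ofBijective _ h1).symm.trans (MulEquiv.ofBijective _ h2)⟩

end H86.CardStep
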