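import Mathlib
import Cfsg.Agent.Lib.H86.CardStep

/-! Recognition of `GL(2,3)` by generators. -/

set_option autoImplicit false

namespace H86.Oct

open H86.CardStep

variable {G : Type*} [Group G]

theorem conj_sup {M N : Subgroup G} {b x : G} (h1 : ∀ m ∈ M, x * m * x⁻¹ ∈ N) (h2 : x * b * x⁻¹ ∈ N) :
    ∀ m ∈ M ⊔ Subgroup.zpowers b, x * m * x⁻¹ ∈ N := by
  have h : M ⊔ Subgroup.zpowers b ≤ N.comap (MulAut.conj x).toMonoidHom := by
    refine sup_le ?_ ?_
    · intro m hm; exact h1 m hm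
    · rw [Subgroup.zpowers_le]; exact h2
  intro m hm
  exact h hm

theorem conj_zp {N : Subgroup G} {b x : G} (h2 : x * b * x⁻¹ ∈ N) :
    ∀ m ∈ Subgroup.zpowers b, x * m * x⁻¹ ∈ N := by
  have h : Subgroup.zpowers b ≤ N.comap (MulAut.conj x).toMonoidHom := by
    rw [Subgroup.zpowers_le]; exact h2
  intro m hm
  exact h hm

/-- relations -/
structure Rel (x y z : G) : Prop where
  hx : x * x = 1
  hy : y * y * y = 1
  hz : x * y * x * y * (x * y * x * y) = z
  hzx : z * x = x * z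
  hzy : z * y = y * z
  hzz : z * z = 1

variable {x y z : G}

theorem Rel.xinv (h : Rel x y z) : x⁻¹ = x := inv_eq_of_mul_eq_one_right h.hx
theorem Rel.yinv (h : Rel x y z) : y⁻¹ = y * y := inv_eq_of_mul_eq_one_right (by rw [← mul_assoc]; exact h.hy)
theorem Rel.zinv (h : Rel x y z) : z⁻¹ = z := inv_eq_of_mul_eq_one_right h.hzz

theorem Rel.xyx (h : Rel x y z) : x * y * x = z * (y⁻¹ * x * y⁻¹ * x * y⁻¹) := by
  have h1 : x * y * x * (y * x * y * x * y) = z := by rw [← h.hz]; group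
  have h2 : x * y * x = z * (y * x * y * x * y)⁻¹ := by rw [← h1]; group
  rw [h2]
  congr 1
  rw [mul_inv_rev, mul_inv_rev, mul_inv_rev, mul_inv_rev, h.xinv]
  group

theorem Rel.xyxyx (h : Rel x y z) : x * y * x * y * x = z * (y⁻¹ * x * y⁻¹) := by
  have h1 : x * y * x * y * x * (y * x * y) = z := by rw [← h.hz]; group
  have h2 : x * y * x * y * x = z * (y * x * y)⁻¹ := by rw [← h1]; group
  rw [h2, mul_inv_rev, mul_inv_rev, h.xinv]
  group

theorem Rel.zc (h : Rel x y z) (w : G) (hw : w ∈ Subgroup.closure {x, y}) : z * w = w * z := by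
  have : Subgroup.closure {x, y} ≤ Subgroup.centralizer ({z} : Set G) := by
    rw [Subgroup.closure_le]
    rintro a (rfl | rfl)
    · exact Subgroup.mem_centralizer_singleton_iff.mpr h.hzx.symm
    · exact Subgroup.mem_centralizer_singleton_iff.mpr h.hzy.symm
  exact (Subgroup.mem_centralizer_singleton_iff.mp (this hw)).symm

/-- `a a' = y a' y⁻¹`, `a = xyxy`, `a' = yxyx`. -/
theorem Rel.aa (h : Rel x y z) : (x * y * x * y) * (y * x * y * x) = y⁻¹ * x * y * x * y⁻¹ := by
  have hmx : x ∈ Subgroup.closure {x, y} := Subgroup.subset_closure (Or.inl rfl)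
  have hmy : y ∈ Subgroup.closure {x, y} := Subgroup.subset_closure (Or.inr rfl)
  have hmy' := (Subgroup.closure {x, y}).inv_mem hmy
  have y2 : y⁻¹ * y⁻¹ = y := by rw [← mul_inv_rev, ← h.yinv, inv_inv]
  have z1 := h.zc (y⁻¹ * x * y⁻¹) (Subgroup.mul_mem _ (Subgroup.mul_mem _ hmy' hmx) hmy')
  calc (x * y * x * y) * (y * x * y * x) = (x * y * x) * (y * y) * (x * y * x) := by group
    _ = z * (y⁻¹ * x * y⁻¹ * x * y⁻¹) * (y * y) * (x * y * x) := by rw [← h.xyx]
    _ = z * (y⁻¹ * x * y⁻¹) * (x * y * x * y * x) := by group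
    _ = z * (y⁻¹ * x * y⁻¹) * (z * (y⁻¹ * x * y⁻¹)) := by rw [h.xyxyx]
    _ = z * z * (y⁻¹ * x * (y⁻¹ * y⁻¹) * x * y⁻¹) := by
        calc z * (y⁻¹ * x * y⁻¹) * (z * (y⁻¹ * x * y⁻¹)) =
            z * ((y⁻¹ * x * y⁻¹) * z) * (y⁻¹ * x * y⁻¹) := by group
          _ = z * (z * (y⁻¹ * x * y⁻¹)) * (y⁻¹ * x * y⁻¹) := by rw [z1]
          _ = _ := by group
    _ = y⁻¹ * x * y * x * y⁻¹ := by rw [h.hzz, y2, one_mul]

theorem card_le [Finite G] (h : Rel x y z) : Nat.card (Subgroup.closure {x, y}) ≤ 48 := by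
  set a := x * y * x * y with ha
  set a' := y * x * y * x with ha'
  have hmx : x ∈ Subgroup.closure {x, y} := Subgroup.subset_closure (Or.inl rfl)
  have hmy : y ∈ Subgroup.closure {x, y} := Subgroup.subset_closure (Or.inr rfl)
  have hma : a ∈ Subgroup.closure {x, y} :=
    Subgroup.mul_mem _ (Subgroup.mul_mem _ (Subgroup.mul_mem _ hmx hmy) hmx) hmy
  have hma' : a' ∈ Subgroup.closure {x, y} :=
    Subgroup.mul_mem _ (Subgroup.mul_mem _ (Subgroup.mul_mem _ hmy hmx) hmy) hmx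
  have haz := h.zc a hma
  have haz' := h.zc a' hma'
  have e1 : a * a = z := h.hz
  have e2 : y * a * y⁻¹ = a' := by rw [ha, ha']; group
  have e3 : a' * a' = z := by
    calc a' * a' = y * (a * a) * y⁻¹ := by rw [← e2]; group
      _ = z := by rw [e1, ← h.hzy]; group
  have e4 : a * a' = y * a' * y⁻¹ := by
    rw [ha, ha', h.aa, h.yinv]; group
  have e5 : (a * a') * (a * a') = z := by
    rw [e4]
    calc y * a' * y⁻¹ * (y * a' * y⁻¹) = y * (a' * a') * y⁻¹ := by group
      _ = z := by rw [e3, ← h.hzy]; group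
  have e6 : a' * a * a'⁻¹ = a * z := by
    have h1 : a' * a * a' = a := by
      have h2 : a * (a' * a * a') = a * a := by rw [e1, ← e5]; group
      exact mul_left_cancel h2
    have h2 : a'⁻¹ = a' * z := by
      apply inv_eq_of_mul_eq_one_right
      rw [← mul_assoc, e3, h.hzz]
    rw [h2]
    calc a' * a * (a' * z) = (a' * a * a') * z := by group
      _ = a * z := by rw [h1]
  have e7 : x * a * x⁻¹ = a' := by
    rw [h.xinv, ha, ha']
    calc x * (x * y * x * y) * x = (x * x) * (y * x * y * x) := by group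
      _ = _ := by rw [h.hx, one_mul]
  have e8 : x * a' * x⁻¹ = a := by
    rw [h.xinv, ha, ha']
    calc x * (y * x * y * x) * x = x * y * x * y * (x * x) := by group
      _ = _ := by rw [h.hx, mul_one]
  have e9 : x * y * x⁻¹ = a * y⁻¹ := by
    rw [h.xinv, ha]; group
  -- conjugation of z
  have cz : ∀ w ∈ Subgroup.closure {x, y}, w * z * w⁻¹ = z := by
    intro w hw
    rw [← h.zc w hw, mul_inv_cancel_right]
  set M0 := Subgroup.zpowers z with hM0
  set M1 := M0 ⊔ Subgroup.zpowers a with hM1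
  set M2 := M1 ⊔ Subgroup.zpowers a' with hM2
  set M3 := M2 ⊔ Subgroup.zpowers y with hM3
  set M4 := M3 ⊔ Subgroup.zpowers x with hM4
  have z0 : z ∈ M0 := Subgroup.mem_zpowers z
  have z1 : z ∈ M1 := Subgroup.mem_sup_left z0
  have z2 : z ∈ M2 := Subgroup.mem_sup_left z1
  have z3 : z ∈ M3 := Subgroup.mem_sup_left z2
  have a1 : a ∈ M1 := Subgroup.mem_sup_right (Subgroup.mem_zpowers a)
  have a2 : a ∈ M2 := Subgroup.mem_sup_left a1
  have a3 : a ∈ M3 := Subgroup.mem_sup_left a2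
  have b2 : a' ∈ M2 := Subgroup.mem_sup_right (Subgroup.mem_zpowers a')
  have b3 : a' ∈ M3 := Subgroup.mem_sup_left b2
  have y3 : y ∈ M3 := Subgroup.mem_sup_right (Subgroup.mem_zpowers y)
  have y4 : y ∈ M4 := Subgroup.mem_sup_left y3
  have x4 : x ∈ M4 := Subgroup.mem_sup_right (Subgroup.mem_zpowers x)
  have c0 : Nat.card M0 ≤ 2 := by
    rw [hM0, Nat.card_zpowers]
    exact orderOf_le_of_pow_eq_one (by norm_num) (by rw [pow_two, h.hzz])
  have c1 : Nat.card M1 ≤ 2 * Nat.card M0 := by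
    apply card_step M0 a (by norm_num)
    · rw [pow_two, e1]; exact z0
    · exact conj_zp (by rw [cz a hma]; exact z0)
  have c2 : Nat.card M2 ≤ 2 * Nat.card M1 := by
    apply card_step M1 a' (by norm_num)
    · rw [pow_two, e3]; exact z1
    · exact conj_sup (conj_zp (by rw [cz a' hma']; exact z1)) (by rw [e6]; exact M1.mul_mem a1 z1)
  have c3 : Nat.card M3 ≤ 3 * Nat.card M2 := by
    apply card_step M2 y (by norm_num)
    · rw [pow_succ, pow_two, h.hy]; exact one_mem _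
    · exact conj_sup (conj_sup (conj_zp (by rw [cz y hmy]; exact z2)) (by rw [e2]; exact b2))
        (by rw [← e4]; exact M2.mul_mem a2 b2)
  have c4 : Nat.card M4 ≤ 2 * Nat.card M3 := by
    apply card_step M3 x (by norm_num)
    · rw [pow_two, h.hx]; exact one_mem _
    · exact conj_sup (conj_sup (conj_sup (conj_zp (by rw [cz x hmx]; exact z3)) (by rw [e7]; exact b3))
        (by rw [e8]; exact a3)) (by rw [e9]; exact M3.mul_mem a3 (M3.inv_mem y3))
  have hle : Subgroup.closure {x, y} ≤ M4 := by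
    rw [Subgroup.closure_le]
    rintro w (rfl | rfl)
    · exact x4
    · exact y4
  calc Nat.card (Subgroup.closure {x, y}) ≤ Nat.card M4 := Subgroup.card_le_of_le hle
    _ ≤ 48 := by omega

/-- two groups of order 48 with these generators are isomorphic -/
theorem iso {A B : Type*} [Group A] [Group B] {x y z : A} {x' y' z' : B} (h : Rel x y z) (h' : Rel x' y' z')
    (hA : Nat.card A = 48) (hB : Nat.card B = 48) (gA : Subgroup.closure {x, y} = ⊤)
    (gB : Subgroup.closure {x', y'} = ⊤) : Nonempty (A ≃* B) := by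
  have fA : Finite A := Nat.finite_of_card_ne_zero (by rw [hA]; norm_num)
  have fB : Finite B := Nat.finite_of_card_ne_zero (by rw [hB]; norm_num)
  have hR : Rel (x, x') (y, y') (z, z') :=
    ⟨Prod.ext h.hx h'.hx, Prod.ext h.hy h'.hy, Prod.ext h.hz h'.hz, Prod.ext h.hzx h'.hzx,
      Prod.ext h.hzy h'.hzy, Prod.ext h.hzz h'.hzz⟩
  have hc := card_le hR
  have m1 : ((x, x') : A × B) ∈ Subgroup.closure {((x, x') : A × B), (y, y')} :=
    Subgroup.subset_closure (Or.inl rfl)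
  have m2 : ((y, y') : A × B) ∈ Subgroup.closure {((x, x') : A × B), (y, y')} :=
    Subgroup.subset_closure (Or.inr rfl)
  apply iso_of_bound (Subgroup.closure {((x, x') : A × B), (y, y')})
  · rw [← MonoidHom.range_eq_top, eq_top_iff, ← gA, Subgroup.closure_le]
    rintro w (rfl | rfl)
    · exact ⟨⟨_, m1⟩, rfl⟩
    · exact ⟨⟨_, m2⟩, rfl⟩
  · rw [← MonoidHom.range_eq_top, eq_top_iff, ← gB, Subgroup.closure_le]
    rintro w (rfl | rfl)
    · exact ⟨⟨_, m1⟩, rfl⟩
    · exact ⟨⟨_, m2⟩, rfl⟩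
  · rw [hA]; exact hc
  · rw [hB]; exact hc

/-! ### `GL(2,3)` -/

def X : GL (Fin 2) (ZMod 3) := ⟨!![0, 1; 1, 0], !![0, 1; 1, 0], by decide +kernel, by decide +kernel⟩
def Y : GL (Fin 2) (ZMod 3) := ⟨!![1, 1; 0, 1], !![1, 2; 0, 1], by decide +kernel, by decide +kernel⟩

theorem relGL : Rel X Y (-1) where
  hx := Units.ext (by decide +kernel)
  hy := Units.ext (by decide +kernel)
  hz := Units.ext (by decide +kernel)
  hzx := Units.ext (by decide +kernel)
  hzy := Units.ext (by decide +kernel)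
  hzz := Units.ext (by decide +kernel)

theorem words : ∀ M : Matrix (Fin 2) (Fin 2) (ZMod 3), M.det ≠ 0 → ∃ i : Fin 8, ∃ j : Fin 3, ∃ k : Fin 2,
    M = (!![0, 1; 1, 1] : Matrix (Fin 2) (Fin 2) (ZMod 3)) ^ (i : ℕ) * !![1, 1; 0, 1] ^ (j : ℕ) *
      !![1, 0; 0, 2] ^ (k : ℕ) := by decide +kernel

theorem genGL : Subgroup.closure {X, Y} = ⊤ := by
  have hX : X ∈ Subgroup.closure {X, Y} := Subgroup.subset_closure (Or.inl rfl)
  have hY : Y ∈ Subgroup.closure {X, Y} := Subgroup.subset_closure (Or.inr rfl)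
  rw [eq_top_iff]
  intro g _
  have hdet : (g : Matrix (Fin 2) (Fin 2) (ZMod 3)).det ≠ 0 := by
    have := Matrix.GeneralLinearGroup.det_ne_zero g
    exact this
  obtain ⟨i, j, k, hg⟩ := words g hdet
  have e1 : ((X * Y : GL (Fin 2) (ZMod 3)) : Matrix (Fin 2) (Fin 2) (ZMod 3)) = !![0, 1; 1, 1] := by decide +kernel
  have e3 : ((Y * X * Y * Y * X * Y * X : GL (Fin 2) (ZMod 3)) : Matrix (Fin 2) (Fin 2) (ZMod 3)) = !![1, 0; 0, 2] := by
    decide +kernel
  have : g = (X * Y) ^ (i : ℕ) * Y ^ (j : ℕ) * (Y * X * Y * Y * X * Y * X) ^ (k : ℕ) := by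
    apply Units.ext
    rw [hg, Units.val_mul, Units.val_mul, Units.val_pow_eq_pow_val, Units.val_pow_eq_pow_val,
      Units.val_pow_eq_pow_val, e1, e3]
    rfl
  rw [this]
  have h3 : Y * X * Y * Y * X * Y * X ∈ Subgroup.closure {X, Y} :=
    mul_mem (mul_mem (mul_mem (mul_mem (mul_mem (mul_mem hY hX) hY) hY) hX) hY) hX
  exact mul_mem (mul_mem (pow_mem (mul_mem hX hY) _) (pow_mem hY _)) (pow_mem h3 _)

theorem card_GL : Nat.card (GL (Fin 2) (ZMod 3)) = 48 := by
  have : Fact (Nat.Prime 3) := ⟨Nat.prime_three⟩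
  have := Matrix.card_GL_field (𝔽 := ZMod 3) (n := 2)
  rw [this, ZMod.card]
  decide

theorem iso_GL {A : Type*} [Group A] {x y z : A} (h : Rel x y z)
    (hA : Nat.card A = 48) (gA : Subgroup.closure {x, y} = ⊤) : Nonempty (A ≃* GL (Fin 2) (ZMod 3)) :=
  iso h relGL hA card_GL gA genGL

end H86.Oct
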