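import Mathlib
import Cfsg.Agent.Lib.H7.OA
import Cfsg.Agent.Lib.H17.OrthAbs

set_option autoImplicit false
set_option linter.all false

/-!
Adjusting an isometry modulo `Om Q` by an isometry supported on `<p, p'>`, where
`Q p * Q p'` is not a square (odd characteristic).
-/

namespace H86.AdjR

open Module QuadraticMap H48.QuadSplit H48.QuadWitt H95.OGeo H7.OA H17.OrthAbs
open scoped commutatorElement

variable {F V : Type*} [Field F] [AddCommGroup V] [Module F V] {Q : QuadraticForm F V}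

lemma sq_class [Finite F] (h2 : (2 : F) ≠ 0) {a b c : F} (ha : a ≠ 0) (hb : b ≠ 0) (hc : c ≠ 0)
    (h : ¬ IsSquare (a * b)) : IsSquare (c * a) ∨ IsSquare (c * b) := by
  classical
  have := Fintype.ofFinite F
  have hF : ringChar F ≠ 2 := fun h0 => h2 (by
    have : ((2 : ℕ) : F) = 0 := by rw [ringChar.spec, h0]
    simpa using this)
  by_contra hcon
  push Not at hcon
  have h1 := (quadraticChar_neg_one_iff_not_isSquare).2 hcon.1
  have h3 := (quadraticChar_neg_one_iff_not_isSquare).2 hcon.2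
  have h4 := (quadraticChar_neg_one_iff_not_isSquare).2 h
  rw [map_mul] at h1 h3 h4
  have h5 : quadraticChar F c * quadraticChar F c = 1 := by
    rw [← map_mul]
    rw [quadraticChar_one_iff_isSquare (mul_ne_zero hc hc)]
    exact ⟨c, rfl⟩
  have h6 : (quadraticChar F c * quadraticChar F a) * (quadraticChar F c * quadraticChar F b) = 1 := by
    rw [h1, h3]; norm_num
  have h7 : (quadraticChar F c * quadraticChar F c) * (quadraticChar F a * quadraticChar F b) = 1 := by
    rw [← h6]; ring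
  rw [h5, h4] at h7
  norm_num at h7

lemma refl_congr {v y : V} (h : v = y) (hv : Q v ≠ 0) (hy : Q y ≠ 0) :
    refl Q v hv = refl Q y hy := by subst h; rfl

lemma refl_smul' {y : V} {s : F} (hs : s ≠ 0) (hy : Q y ≠ 0) (hv : Q (s • y) ≠ 0) :
    refl Q (s • y) hv = refl Q y hy := by
  apply LinearEquiv.ext
  intro x
  rw [refl_apply, refl_apply, H95.OGeo.Q_smul, H95.OGeo.p_smul, smul_smul]
  congr 2
  field_simp

lemma mem_O' {g : V ≃ₗ[F] V} : g ∈ H17.OrthAbs.O Q ↔ g ∈ H7.OA.O Q := Iff.rfl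

lemma refl_class (h2 : (2 : F) ≠ 0) {v y : V} (hv : Q v ≠ 0) (hy : Q y ≠ 0) (h : Q v = Q y) :
    refl Q v hv * refl Q y hy ∈ Om Q := by
  have key : ∀ g : V ≃ₗ[F] V, g ∈ H17.OrthAbs.O Q → (g v = y ∨ g v = (-1 : F) • y) →
      refl Q v hv * refl Q y hy ∈ Om Q := by
    intro g hg hgv
    have hgv' : Q (g v) ≠ 0 := by rw [hg v]; exact hv
    have h3 : refl Q y hy = refl Q (g v) hgv' := by
      rcases hgv with h4 | h4
      · exact (refl_congr h4 hgv' hy).symm
      · have h5 : Q ((-1 : F) • y) ≠ 0 := by rw [← h4]; exact hgv'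
        rw [refl_congr h4 hgv' h5]
        exact (refl_smul' (by norm_num) hy h5).symm
    rw [h3, ← conj_refl Q g hg v hv hgv']
    have h6 : refl Q v hv * (g * refl Q v hv * g⁻¹) = ⁅refl Q v hv, g⁆ := by
      rw [commutatorElement_def, refl_inv]
      group
    rw [h6]
    exact Subgroup.commutator_mem_commutator (refl_mem_O Q v hv) hg
  by_cases h4 : Q (v - y) = 0
  · have h5 : Q (v - (-1 : F) • y) ≠ 0 := by
      have e1 : v - (-1 : F) • y = v + y := by module
      rw [e1]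
      rw [H95.OGeo.Q_sub] at h4
      rw [H95.OGeo.Q_add]
      intro h6
      have h7 : (2 * 2) * Q v = 0 := by
        rw [← h] at h4 h6
        linear_combination h4 + h6
      rcases mul_eq_zero.mp h7 with h8 | h8
      · exact (mul_ne_zero h2 h2) h8
      · exact hv h8
    refine key (refl Q _ h5) (refl_mem_O Q _ h5) (Or.inr ?_)
    exact refl_sub Q v _ (by rw [H95.OGeo.Q_smul, h]; ring) h5
  · exact key (refl Q _ h4) (refl_mem_O Q _ h4) (Or.inl (refl_sub Q v y h h4))

theorem adjR [Finite F] [FiniteDimensional F V] (hQ : ND Q) (h5 : 5 ≤ finrank F V)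
    (h2 : (2 : F) ≠ 0) {p p' : V} (hp : Q p ≠ 0)
    (hp' : Q p' ≠ 0) (hns : ¬ IsSquare (Q p * Q p')) {g : V ≃ₗ[F] V} (hg : g ∈ H7.OA.O Q) :
    ∃ d ∈ H7.OA.O Q, (∀ x, polar Q p x = 0 → polar Q p' x = 0 → d x = x) ∧ g * d ∈ Om Q := by
  set C : Subgroup (V ≃ₗ[F] V) := Subgroup.closure {refl Q p hp, refl Q p' hp'} with hC
  have hCO : C ≤ H7.OA.O Q := by
    rw [hC, Subgroup.closure_le]
    intro x hx
    rcases hx with rfl | hx
    · exact refl_mem_O Q p hp
    · rw [Set.mem_singleton_iff] at hx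
      subst hx
      exact refl_mem_O Q p' hp'
  let T : Subgroup (V ≃ₗ[F] V) :=
    { carrier := {x | x ∈ H7.OA.O Q ∧ ∃ d ∈ C, x * d ∈ Om Q}
      one_mem' := ⟨(H7.OA.O Q).one_mem, 1, C.one_mem, by rw [mul_one]; exact (Om Q).one_mem⟩
      mul_mem' := by
        rintro a b ⟨ha, d, hd, had⟩ ⟨hb, d', hd', hbd⟩
        refine ⟨(H7.OA.O Q).mul_mem ha hb, d' * d, C.mul_mem hd' hd, ?_⟩
        have e1 : a * b * (d' * d) = (a * (b * d') * a⁻¹) * (a * d) := by group
        rw [e1]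
        exact (Om Q).mul_mem (conj_Om ha hbd) had
      inv_mem' := by
        rintro a ⟨ha, d, hd, had⟩
        refine ⟨(H7.OA.O Q).inv_mem ha, d⁻¹, C.inv_mem hd, ?_⟩
        have e1 : a⁻¹ * d⁻¹ = (a⁻¹ * (a * d) * (a⁻¹)⁻¹)⁻¹ := by group
        rw [e1]
        exact (Om Q).inv_mem (conj_Om ((H7.OA.O Q).inv_mem ha) had) }
  have hT : H17.OrthAbs.O Q ≤ T := by
    apply O_le_of_refl_mem_odd h2 Q (nd_iff.1 hQ) T
    intro v hv
    refine ⟨refl_mem_O Q v hv, ?_⟩
    have hex : ∃ q : V, ∃ hq : Q q ≠ 0, refl Q q hq ∈ C ∧ IsSquare (Q v * Q q) := by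
      rcases sq_class h2 hp hp' hv hns with h | h
      · exact ⟨p, hp, Subgroup.subset_closure (Or.inl rfl), h⟩
      · exact ⟨p', hp', Subgroup.subset_closure (Or.inr rfl), h⟩
    obtain ⟨q, hq, hqC, s, hs⟩ := hex
    refine ⟨refl Q q hq, hqC, ?_⟩
    have hs0 : s ≠ 0 := by
      rintro rfl
      rw [mul_zero] at hs
      exact mul_ne_zero hv hq hs
    have hr : s * (Q q)⁻¹ ≠ 0 := mul_ne_zero hs0 (inv_ne_zero hq)
    have h6 : Q v = Q ((s * (Q q)⁻¹) • q) := by
      rw [H95.OGeo.Q_smul]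
      field_simp
      linear_combination hs
    have h7 : Q ((s * (Q q)⁻¹) • q) ≠ 0 := by rw [← h6]; exact hv
    rw [← refl_smul' hr hq h7]
    exact refl_class h2 hv h7 h6
  obtain ⟨-, d, hd, hgd⟩ := hT hg
  refine ⟨d, hCO hd, ?_, hgd⟩
  intro x hx hx'
  have hfix : C ≤ MulAction.stabilizer (V ≃ₗ[F] V) x := by
    rw [hC, Subgroup.closure_le]
    intro y hy
    rcases hy with rfl | hy
    · exact refl_fix Q p hp x hx
    · rw [Set.mem_singleton_iff] at hy
      subst hy
      exact refl_fix Q p' hp' x hx'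
  exact hfix hd

end H86.AdjR
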