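import Mathlib
import Cfsg.Agent.Lib.H78.SelfCent2
import Cfsg.Agent.Lib.H81.EigenCount
import Cfsg.Agent.Lib.H18.CharOrtho

/-!
Characters of degree `p - 1` of a group with a self-centralizing element of prime order `p`.
-/

set_option autoImplicit false
set_option linter.unusedSimpArgs false
set_option linter.unusedVariables false
set_option linter.style.haveILetI false
set_option linter.unusedSectionVars false

open Cfsg
open scoped ComplexConjugate

namespace H86.ParityDet

universe u v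

/-- the sum of a character over a subgroup -/
theorem sum_sub {G : Type u} [Group G] {V : Type v} [AddCommGroup V] [Module ℂ V]
    [FiniteDimensional ℂ V] (ρ : Representation ℂ G V) (H : Subgroup G) [Finite H] [Fintype H] :
    ∃ b : ℕ, ∑ h : H, ρ.character (h : G) = Nat.card H * b ∧
      (b = 0 → ∀ g : G, ∑ h : H, ρ.character ((h : G) * g) = 0) := by
  classical
  let σ : Representation ℂ H V := ρ.comp H.subtype
  have hcard : (Nat.card H : ℂ) ≠ 0 := by exact_mod_cast (Nat.card_pos (α := H)).ne'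
  haveI : Invertible (Fintype.card H : ℂ) := by
    rw [← Nat.card_eq_fintype_card]
    exact invertibleOfNonzero hcard
  have hproj := σ.isProj_averageMap
  have htr := hproj.trace
  have hav : σ.averageMap = (Nat.card H : ℂ)⁻¹ • ∑ h : H, ρ (h : G) := by
    simp [Representation.averageMap, GroupAlgebra.average, map_smul, map_sum, σ,
      Nat.card_eq_fintype_card]
  refine ⟨Module.finrank ℂ σ.invariants, ?_, ?_⟩
  · rw [← htr, hav, map_smul, map_sum, smul_eq_mul, mul_inv_cancel_left₀ hcard]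
    rfl
  · intro h0 g
    have hb : σ.invariants = ⊥ := Submodule.finrank_eq_zero.mp h0
    have h1 : σ.averageMap = 0 := by
      apply LinearMap.ext
      intro v
      have h2 := hproj.map_mem v
      rw [hb, Submodule.mem_bot] at h2
      exact h2
    rw [hav, smul_eq_zero] at h1
    have h2 : ∑ h : H, ρ (h : G) = 0 := h1.resolve_left (inv_ne_zero hcard)
    have h3 : ∑ h : H, ρ.character ((h : G) * g) = LinearMap.trace ℂ V ((∑ h : H, ρ (h : G)) * ρ g) := by
      rw [Finset.sum_mul, map_sum]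
      refine Finset.sum_congr rfl fun h _ => ?_
      rw [← map_mul]
      rfl
    rw [h3, h2, zero_mul, map_zero]

/-- the sum of a class function over a coset on which the subgroup acts freely -/
theorem coset_sum {G : Type u} [Group G] (χ : G → ℂ) (hχ : ∀ g h, χ (h * g * h⁻¹) = χ g)
    (P : Subgroup G) [Finite P] [Fintype P] (n : G) (hn : n ∈ Subgroup.normalizer (P : Set G))
    (hfree : ∀ g ∈ P, g * n = n * g → g = 1) :
    ∑ g : P, χ ((g : G) * n) = Nat.card P * χ n := by
  classical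
  let φ : P → P := fun g => ⟨(g : G) * (n * (g : G)⁻¹ * n⁻¹),
    P.mul_mem g.2 ((Subgroup.mem_normalizer_iff.mp hn _).mp (P.inv_mem g.2))⟩
  have hinj : Function.Injective φ := by
    intro a b hab
    have h1 : (a : G) * (n * (a : G)⁻¹ * n⁻¹) = (b : G) * (n * (b : G)⁻¹ * n⁻¹) := congrArg Subtype.val hab
    have h2 : ((b : G)⁻¹ * a) * n = n * ((b : G)⁻¹ * a) := by
      calc ((b : G)⁻¹ * a) * n = (b : G)⁻¹ * ((a : G) * (n * (a : G)⁻¹ * n⁻¹)) * (n * a) := by group
        _ = (b : G)⁻¹ * ((b : G) * (n * (b : G)⁻¹ * n⁻¹)) * (n * a) := by rw [h1]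
        _ = n * ((b : G)⁻¹ * a) := by group
    have h3 := hfree _ (P.mul_mem (P.inv_mem b.2) a.2) h2
    exact Subtype.ext (inv_mul_eq_one.mp h3).symm
  have hbij : Function.Bijective φ := (Finite.injective_iff_bijective).mp hinj
  rw [← hbij.sum_comp (fun g : P => χ ((g : G) * n))]
  have h1 : ∀ g : P, χ ((φ g : G) * n) = χ n := by
    intro g
    have : (φ g : G) * n = g * n * (g : G)⁻¹ := by
      show (g : G) * (n * (g : G)⁻¹ * n⁻¹) * n = _
      group
    rw [this, hχ]
  rw [Finset.sum_congr rfl (fun g _ => h1 g), Finset.sum_const, Finset.card_univ, nsmul_eq_mul,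
    Nat.card_eq_fintype_card]

/-- a generator of the normalizer modulo the self-centralizing subgroup -/
theorem exists_y {G : Type u} [Group G] [Finite G] {p : ℕ} (hp : p.Prime) {x : G} (hx : orderOf x = p)
    (hC : Subgroup.centralizer ({x} : Set G) = Subgroup.zpowers x) :
    ∃ y ∈ Subgroup.normalizer ((Subgroup.zpowers x : Subgroup G) : Set G), ∃ e : ℕ, 0 < e ∧
      (∀ k : ℕ, y ^ k ∈ Subgroup.zpowers x ↔ e ∣ k) ∧
      (∀ n ∈ Subgroup.normalizer ((Subgroup.zpowers x : Subgroup G) : Set G),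
        ∃ k : ℕ, k < e ∧ n * (y ^ k)⁻¹ ∈ Subgroup.zpowers x) := by
  classical
  set P := Subgroup.zpowers x with hP
  set N := Subgroup.normalizer ((P : Subgroup G) : Set G) with hN
  haveI : Fact p.Prime := ⟨hp⟩
  have hPc : Nat.card P = p := by rw [Nat.card_zpowers, hx]
  let f : N →* MulAut P := P.normalizerMonoidHom
  have hf : ∀ (n : N) (g : P), ((f n g : P) : G) = (n : G) * g * (n : G)⁻¹ := fun n g => rfl
  have hker : ∀ n : N, f n = 1 ↔ (n : G) ∈ P := by
    intro n
    constructor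
    · intro h
      rw [← hC, Subgroup.mem_centralizer_singleton_iff]
      have h1 := hf n ⟨x, Subgroup.mem_zpowers x⟩
      rw [h] at h1
      have h2 : x = (n : G) * x * (n : G)⁻¹ := h1
      calc (n : G) * x = (n : G) * x * (n : G)⁻¹ * n := by group
        _ = x * n := by rw [← h2]
    · intro h
      ext g
      rw [hf]
      have h1 : (n : G) * g = g * n := by
        obtain ⟨a, ha⟩ := Subgroup.mem_zpowers_iff.mp h
        obtain ⟨b, hb⟩ := Subgroup.mem_zpowers_iff.mp g.2
        rw [← ha, ← hb, ← zpow_add, ← zpow_add, add_comm]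
      rw [h1, mul_inv_cancel_right]
      rfl
  haveI : IsCyclic (MulAut P) := by
    haveI : IsCyclic P := inferInstance
    have e1 : MulAut P ≃* (ZMod (Nat.card P))ˣ := IsCyclic.mulAutMulEquiv P
    rw [hPc] at e1
    exact isCyclic_of_surjective e1.symm e1.symm.surjective
  haveI : IsCyclic f.range := inferInstance
  obtain ⟨⟨_, ⟨y, rfl⟩⟩, hy⟩ := IsCyclic.exists_generator (α := f.range)
  haveI : Finite (MulAut P) := by
    apply Finite.of_injective (fun a : MulAut P => (a : P → P))
    exact DFunLike.coe_injective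
  refine ⟨y, y.2, orderOf (f y), orderOf_pos _, ?_, ?_⟩
  · intro k
    rw [orderOf_dvd_iff_pow_eq_one, ← map_pow, hker]
    rfl
  · intro n hn
    obtain ⟨k, hk⟩ := Subgroup.mem_zpowers_iff.mp (hy ⟨f ⟨n, hn⟩, ⟨n, hn⟩, rfl⟩)
    have hk1 : (f y) ^ k = f ⟨n, hn⟩ := congrArg Subtype.val hk
    have hpos : (0 : ℤ) < (orderOf (f y) : ℤ) := by exact_mod_cast orderOf_pos (f y)
    have hnn := Int.emod_nonneg k hpos.ne'
    refine ⟨(k % (orderOf (f y) : ℤ)).toNat, ?_, ?_⟩
    · have h1 := Int.emod_lt_of_pos k hpos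
      omega
    · have h2 : (f y) ^ ((k % (orderOf (f y) : ℤ)).toNat) = f ⟨n, hn⟩ := by
        rw [← hk1, ← zpow_natCast, Int.toNat_of_nonneg hnn, zpow_mod_orderOf]
      have h3 : f (⟨n, hn⟩ * (y ^ ((k % (orderOf (f y) : ℤ)).toNat))⁻¹) = 1 := by
        rw [map_mul, map_inv, map_pow, h2, mul_inv_cancel]
      exact (hker _).mp h3

/-- Bessel's inequality for the indicator function of the elements of order `p` -/
theorem bessel {G : Type u} [Group G] [Finite G] {p : ℕ} (hp : p.Prime) {x : G} (hx : orderOf x = p)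
    (hC : Subgroup.centralizer ({x} : Set G) = Subgroup.zpowers x) {χ : G → ℂ} (hχ : IsIrrCharacter G χ)
    (hχ1 : χ ≠ fun _ => 1) (S : ℤ)
    (hS : ∀ g : G, orderOf g = p → ∑ j ∈ Finset.Ico 1 p, χ (g ^ j) = S) (m : ℕ)
    (hm : Nat.card {g : G // orderOf g = p} = m * (p - 1)) (hmpos : 0 < m) :
    (m : ℤ) * ((p - 1 : ℕ) ^ 2 + S ^ 2) ≤ Nat.card G * (p - 1 : ℕ) := by
  classical
  letI : Fintype G := Fintype.ofFinite G
  set n0 := Nat.card G with hn0
  have hn0pos : 0 < n0 := Nat.card_pos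
  have hpp : 0 < p - 1 := Nat.sub_pos_of_lt hp.one_lt
  let f : G → ℂ := fun g => if orderOf g = p then 1 else 0
  have hsumf : ∀ h : G → ℂ, ∑ g : G, h g * conj (f g) = ∑ g ∈ Finset.univ.filter (fun g : G => orderOf g = p), h g := by
    intro h
    rw [Finset.sum_filter]
    refine Finset.sum_congr rfl fun g _ => ?_
    simp only [f]
    split_ifs <;> simp
  have hcard : ((Finset.univ.filter (fun g : G => orderOf g = p)).card : ℂ) = m * (p - 1 : ℕ) := by
    rw [← Nat.cast_mul, ← hm, Nat.card_eq_fintype_card, Fintype.card_subtype]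
  have hff : classInner f f = (n0 : ℂ)⁻¹ * (m * (p - 1 : ℕ)) := by
    rw [classInner, hsumf, ← hcard]
    congr 1
    rw [Finset.card_eq_sum_ones, Nat.cast_sum]
    refine Finset.sum_congr rfl fun g hg => ?_
    simp only [f, (Finset.mem_filter.mp hg).2, if_true, Nat.cast_one]
  have h1f : classInner (fun _ => 1 : G → ℂ) f = (n0 : ℂ)⁻¹ * (m * (p - 1 : ℕ)) := by
    rw [classInner, hsumf, ← hcard]
    congr 1
    rw [Finset.card_eq_sum_ones, Nat.cast_sum]
    refine Finset.sum_congr rfl fun g hg => ?_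
    simp
  have hsum : ∑ g ∈ Finset.univ.filter (fun g : G => orderOf g = p), χ g = m * S := by
    have h1 : ∀ j ∈ Finset.Ico 1 p, ∑ g ∈ Finset.univ.filter (fun g : G => orderOf g = p), χ (g ^ j) =
        ∑ g ∈ Finset.univ.filter (fun g : G => orderOf g = p), χ g := by
      intro j hj
      rw [Finset.mem_Ico] at hj
      have hco : Nat.Coprime p j := (Nat.Prime.coprime_iff_not_dvd hp).mpr (fun h => by
        have := Nat.le_of_dvd (by omega) h
        omega)
      obtain ⟨k, hk⟩ : ∃ k : ℕ, (j * k) % p = 1 := by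
        haveI : Fact p.Prime := ⟨hp⟩
        refine ⟨((j : ZMod p)⁻¹).val, ?_⟩
        have h0 : (j : ZMod p) ≠ 0 := by
          intro h
          rw [ZMod.natCast_eq_zero_iff] at h
          exact (Nat.Prime.coprime_iff_not_dvd hp).mp hco h
        have h2 : ((j * ((j : ZMod p)⁻¹).val : ℕ) : ZMod p) = ((1 : ℕ) : ZMod p) := by
          rw [Nat.cast_mul, ZMod.natCast_val, ZMod.cast_id', id, mul_inv_cancel₀ h0, Nat.cast_one]
        rw [ZMod.natCast_eq_natCast_iff] at h2
        rw [h2, Nat.mod_eq_of_lt hp.one_lt]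
      have hpow : ∀ g : G, orderOf g = p → g ^ (j * k) = g := by
        intro g hg
        conv_rhs => rw [← pow_one g]
        rw [← pow_mod_orderOf, hg, hk]
      refine Finset.sum_nbij' (fun g => g ^ j) (fun g => g ^ k) ?_ ?_ ?_ ?_ ?_
      · intro g hg
        rw [Finset.mem_filter] at hg ⊢
        refine ⟨Finset.mem_univ _, ?_⟩
        rw [Nat.Coprime.orderOf_pow (by rw [hg.2]; exact hco), hg.2]
      · intro g hg
        rw [Finset.mem_filter] at hg ⊢
        refine ⟨Finset.mem_univ _, ?_⟩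
        have hco2 : Nat.Coprime p k := (Nat.Prime.coprime_iff_not_dvd hp).mpr (fun h => by
          have : p ∣ j * k := h.mul_left j
          rw [Nat.mod_eq_zero_of_dvd this] at hk
          exact zero_ne_one hk)
        rw [Nat.Coprime.orderOf_pow (by rw [hg.2]; exact hco2), hg.2]
      · intro g hg
        rw [Finset.mem_filter] at hg
        show (g ^ j) ^ k = g
        rw [← pow_mul, hpow g hg.2]
      · intro g hg
        rw [Finset.mem_filter] at hg
        show (g ^ k) ^ j = g
        rw [← pow_mul, mul_comm, hpow g hg.2]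
      · intro g hg
        rfl
    have h2 : ((p - 1 : ℕ) : ℂ) * ∑ g ∈ Finset.univ.filter (fun g : G => orderOf g = p), χ g =
        ((p - 1 : ℕ) : ℂ) * (m * S) := by
      have h3 : ∑ j ∈ Finset.Ico 1 p, ∑ g ∈ Finset.univ.filter (fun g : G => orderOf g = p), χ (g ^ j) =
          ((p - 1 : ℕ) : ℂ) * ∑ g ∈ Finset.univ.filter (fun g : G => orderOf g = p), χ g := by
        rw [Finset.sum_congr rfl h1, Finset.sum_const, Nat.card_Ico, nsmul_eq_mul]
      rw [← h3, Finset.sum_comm]
      rw [Finset.sum_congr rfl (fun g hg => hS g (Finset.mem_filter.mp hg).2), Finset.sum_const,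
        nsmul_eq_mul, hcard]
      ring
    exact mul_left_cancel₀ (by exact_mod_cast hpp.ne') h2
  have hχf : classInner χ f = (n0 : ℂ)⁻¹ * (m * S) := by
    rw [classInner, hsumf, hsum]
  have hu : (n0 : ℂ) ≠ 0 := by exact_mod_cast hn0pos.ne'
  set u : ℝ := (n0 : ℝ)⁻¹ * (m * (p - 1 : ℕ)) with hudef
  set w : ℝ := (n0 : ℝ)⁻¹ * (m * S) with hwdef
  have hff' : classInner f f = (u : ℂ) := by rw [hff, hudef]; push_cast; ring
  have h1f' : classInner (fun _ => 1 : G → ℂ) f = (u : ℂ) := by rw [h1f, hudef]; push_cast; ring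
  have hχf' : classInner χ f = (w : ℂ) := by rw [hχf, hwdef]; push_cast; ring
  have hf1 : classInner f (fun _ => 1 : G → ℂ) = (u : ℂ) := by
    rw [← H18.CharOrtho.inner_conj_symm, h1f', Complex.conj_ofReal]
  have hfχ : classInner f χ = (w : ℂ) := by
    rw [← H18.CharOrtho.inner_conj_symm, hχf', Complex.conj_ofReal]
  have hone := H18.CharBasic.isIrrCharacter_one (G := G)
  have e1 := H18.CharOrtho.inner_irr_self hone
  have e2 := H18.CharOrtho.inner_irr_self hχ
  have e3 := H18.CharOrtho.inner_irr_ne hχ hone hχ1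
  have e4 := H18.CharOrtho.inner_irr_ne hone hχ hχ1.symm
  have hpos := H18.CharOrtho.inner_self_re_nonneg (f - (u : ℂ) • (fun _ => 1 : G → ℂ) - (w : ℂ) • χ)
  have hval : classInner (f - (u : ℂ) • (fun _ => 1 : G → ℂ) - (w : ℂ) • χ)
      (f - (u : ℂ) • (fun _ => 1 : G → ℂ) - (w : ℂ) • χ) = ((u - u ^ 2 - w ^ 2 : ℝ) : ℂ) := by
    simp only [H18.CharOrtho.inner_sub_left, H18.CharOrtho.inner_sub_right,
      H18.CharOrtho.inner_smul_left, H18.CharOrtho.inner_smul_right, Complex.conj_ofReal,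
      e1, e2, e3, e4, hff', h1f', hχf', hf1, hfχ]
    push_cast
    ring
  rw [hval, Complex.ofReal_re] at hpos
  have hn0R : (0 : ℝ) < n0 := by exact_mod_cast hn0pos
  have h5 : 0 ≤ (n0 : ℝ) ^ 2 * (u - u ^ 2 - w ^ 2) := by positivity
  have h6 : (n0 : ℝ) ^ 2 * (u - u ^ 2 - w ^ 2) =
      m * (n0 * (p - 1 : ℕ) - m * ((p - 1 : ℕ) ^ 2 + S ^ 2)) := by
    rw [hudef, hwdef]
    field_simp
    ring
  rw [h6] at h5
  have hmR : (0 : ℝ) < m := by exact_mod_cast hmpos
  have h7 : 0 ≤ (n0 : ℝ) * (p - 1 : ℕ) - m * ((p - 1 : ℕ) ^ 2 + S ^ 2) := by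
    exact nonneg_of_mul_nonneg_right h5 hmR
  have h8 : (m : ℝ) * ((p - 1 : ℕ) ^ 2 + S ^ 2) ≤ (n0 : ℝ) * (p - 1 : ℕ) := by linarith
  exact_mod_cast h8

/-- the determinant of an element all of whose eigenvalue multiplicities are the same odd number -/
theorem det_neg {d e t : ℕ} (he : Even e) (he0 : e ≠ 0) (ht : ¬ Even t) (μ : Fin d → ℂ)
    (hμ : ∀ i, μ i ^ e = 1) (hd : d = t * e)
    (h0 : ∀ k, 0 < k → k < e → ∑ i, μ i ^ k = 0) : ∏ i, μ i = -1 := by
  classical
  have hmult : ∀ ζ : ℂ, ζ ^ e = 1 → (Finset.univ.filter (fun i => μ i = ζ)).card = t := by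
    intro ζ hζ
    have h1 := H81.EigenCount.card_eigen he0 μ hμ hζ
    have h2 : ∑ k ∈ Finset.range e, (ζ⁻¹) ^ k * ∑ i, μ i ^ k = d := by
      rw [Finset.sum_eq_single 0]
      · simp
      · intro k hk hk0
        rw [h0 k (Nat.pos_of_ne_zero hk0) (Finset.mem_range.mp hk), mul_zero]
      · intro h
        exact absurd (Finset.mem_range.mpr (Nat.pos_of_ne_zero he0)) h
    have h3 : (e : ℂ) * ((Finset.univ.filter (fun i => μ i = ζ)).card : ℂ) = e * t := by
      rw [h1, h2]
      have hd' : (d : ℂ) = t * e := by exact_mod_cast congrArg (Nat.cast : ℕ → ℂ) hd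
      rw [hd', mul_comm]
    have h4 := mul_left_cancel₀ (by exact_mod_cast he0) h3
    exact_mod_cast h4
  have h1 : ∏ i, μ i = ∏ ζ ∈ (Polynomial.nthRootsFinset e (1 : ℂ)), ζ ^ t := by
    rw [← Finset.prod_fiberwise_of_maps_to (s := Finset.univ) (t := Polynomial.nthRootsFinset e (1 : ℂ))
      (g := μ) (fun i _ => (Polynomial.mem_nthRootsFinset (Nat.pos_of_ne_zero he0) 1).mpr (hμ i))]
    refine Finset.prod_congr rfl fun ζ hζ => ?_
    rw [Polynomial.mem_nthRootsFinset (Nat.pos_of_ne_zero he0)] at hζ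
    rw [Finset.prod_congr rfl (fun i hi => (Finset.mem_filter.mp hi).2), Finset.prod_const, hmult ζ hζ]
  rw [h1, Finset.prod_pow]
  have h2 : ∏ ζ ∈ (Polynomial.nthRootsFinset e (1 : ℂ)), ζ = -1 := by
    haveI : NeZero e := ⟨he0⟩
    have hprim := Complex.isPrimitiveRoot_exp e he0
    have h3 := Polynomial.X_pow_sub_one_eq_prod (Nat.pos_of_ne_zero he0) hprim
    have h4 := congrArg (Polynomial.eval 0) h3
    rw [Polynomial.eval_prod] at h4
    simp only [Polynomial.eval_sub, Polynomial.eval_pow, Polynomial.eval_X, Polynomial.eval_one,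
      Polynomial.eval_C, zero_sub, zero_pow he0] at h4
    rw [Finset.prod_neg] at h4
    rw [hprim.card_nthRootsFinset, he.neg_one_pow, one_mul] at h4
    exact h4.symm
  rw [h2, (Nat.not_even_iff_odd.mp ht).neg_one_pow]

/-- the arithmetic -/
theorem arith {p e t : ℕ} (hp : p.Prime) (hte : t * e = p - 1) (he2 : 2 ≤ e) {b m n0 : ℕ} (hm : 0 < m)
    (hn0 : n0 = m * (p * e)) (hb : e ∣ b)
    (h : (m : ℤ) * ((p - 1 : ℕ) ^ 2 + ((p : ℤ) * b - (p - 1 : ℕ)) ^ 2) ≤ n0 * (p - 1 : ℕ)) : b = 0 := by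
  by_contra hb0
  have hbe : e ≤ b := Nat.le_of_dvd (Nat.pos_of_ne_zero hb0) hb
  have hp2 := hp.two_le
  obtain ⟨q, hq⟩ : ∃ q, p = q + 1 := ⟨p - 1, by omega⟩
  subst hq
  simp only [Nat.add_sub_cancel] at *
  have h1 : (m : ℤ) * ((q : ℤ) ^ 2 + (((q : ℤ) + 1) * b - q) ^ 2) ≤ m * ((((q : ℤ) + 1) * e) * q) := by
    have := h
    rw [hn0] at this
    push_cast at this
    nlinarith
  have hm' : (0 : ℤ) < m := by exact_mod_cast hm
  have h2 := le_of_mul_le_mul_left h1 hm'
  have hbe' : (e : ℤ) ≤ b := by exact_mod_cast hbe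
  have he2' : (2 : ℤ) ≤ e := by exact_mod_cast he2
  have hq1 : (1 : ℤ) ≤ q := by
    have : 1 ≤ q := by omega
    exact_mod_cast this
  have h3 : (((q : ℤ) + 1) * e - q) ≤ (((q : ℤ) + 1) * b - q) := by nlinarith
  have h4 : 0 ≤ (((q : ℤ) + 1) * e - q) := by nlinarith
  have h5 : (((q : ℤ) + 1) * e - q) ^ 2 ≤ (((q : ℤ) + 1) * b - q) ^ 2 := pow_le_pow_left₀ h4 h3 2
  have h6 : (q : ℤ) ^ 2 + (((q : ℤ) + 1) * e - q) ^ 2 ≤ (((q : ℤ) + 1) * e) * q := by linarith
  have h7 : ((((q : ℤ) + 1) * e) - q) * ((((q : ℤ) + 1) * e) - 2 * q) ≤ 0 := by nlinarith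
  have h8 : 0 < (((q : ℤ) + 1) * e) - q := by nlinarith
  have h9 : 0 < (((q : ℤ) + 1) * e) - 2 * q := by nlinarith
  nlinarith [mul_pos h8 h9]

theorem main {G : Type u} [Group G] [Finite G] {p : ℕ} (hp : p.Prime) {x : G} (hx : orderOf x = p)
    (hC : Subgroup.centralizer ({x} : Set G) = Subgroup.zpowers x) (t : ℕ)
    (ht : Nat.card {C : ConjClasses G // ∃ g ∈ C.carrier, orderOf g = p} = t)
    {n : ℕ} (ρ : Representation ℂ G (Fin n → ℂ)) (hirr : IsIrrCharacter G ρ.character)
    (hn : n + 1 = p) : Even t ∨ Even (commutator G).index := by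
  classical
  by_cases hte : Even t
  · exact Or.inl hte
  right
  subst ht
  have hmul := H78.SelfCent2.classes_mul_relIndex hp hx hC
  set t := Nat.card {C : ConjClasses G // ∃ g ∈ C.carrier, orderOf g = p} with ht
  set P := Subgroup.zpowers x with hP
  set N := Subgroup.normalizer ((P : Subgroup G) : Set G) with hN
  have hPc : Nat.card P = p := by rw [hP, Nat.card_zpowers, hx]
  rcases hp.eq_two_or_odd' with hp2 | hpodd
  · have h1 : P.relIndex N = 1 := by
      have : t * P.relIndex N = 1 := by rw [hmul, hp2]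
      exact Nat.eq_one_of_mul_eq_one_left this
    rw [(H78.SelfCent2.exists_complement hp hx hC h1).1, hp2]
    exact even_two
  obtain ⟨y, hy, e, hepos, hye, hcov⟩ := exists_y hp hx hC
  letI : Fintype G := Fintype.ofFinite G
  -- the normalizer
  let Φ : Fin e × P → N := fun a => ⟨(a.2 : G) * y ^ (a.1 : ℕ),
    N.mul_mem (Subgroup.le_normalizer a.2.2) (N.pow_mem hy _)⟩
  have hΦval : ∀ a, (Φ a : G) = (a.2 : G) * y ^ (a.1 : ℕ) := fun a => rfl
  have hΦinj : Function.Injective Φ := by
    have aux : ∀ k k' : ℕ, k ≤ k' → k' < e → ∀ g g' : G, g ∈ P → g' ∈ P →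
        g * y ^ k = g' * y ^ k' → k = k' := by
      intro k k' hkk hk' g g' hg hg' h
      have h1 : y ^ (k' - k) ∈ P := by
        have h2 : y ^ (k' - k) = g'⁻¹ * g := by
          have h3 : y ^ k' = y ^ (k' - k) * y ^ k := by rw [← pow_add, Nat.sub_add_cancel hkk]
          rw [h3, ← mul_assoc] at h
          have h4 := mul_right_cancel h
          rw [h4, inv_mul_cancel_left]
        rw [h2]
        exact P.mul_mem (P.inv_mem hg') hg
      rw [hye] at h1
      have h2 := Nat.eq_zero_of_dvd_of_lt h1 (by omega)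
      omega
    rintro ⟨⟨k, hk⟩, g, hg⟩ ⟨⟨k', hk'⟩, g', hg'⟩ h
    have h1 : g * y ^ k = g' * y ^ k' := congrArg Subtype.val h
    have h2 : k = k' := by
      rcases le_total k k' with h3 | h3
      · exact aux k k' h3 hk' g g' hg hg' h1
      · exact (aux k' k h3 hk g' g hg' hg h1.symm).symm
    subst h2
    have h3 := mul_right_cancel h1
    subst h3
    rfl
  have hΦsurj : Function.Surjective Φ := by
    rintro ⟨n, hn⟩
    obtain ⟨k, hk, hk'⟩ := hcov n hn
    refine ⟨(⟨k, hk⟩, ⟨_, hk'⟩), Subtype.ext ?_⟩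
    show n * (y ^ k)⁻¹ * y ^ k = n
    rw [inv_mul_cancel_right]
  have hNc : Nat.card N = e * p := by
    rw [← Nat.card_congr (Equiv.ofBijective Φ ⟨hΦinj, hΦsurj⟩), Nat.card_prod, Nat.card_fin, hPc]
  have hrel : P.relIndex N = e := by
    have hPN : P ≤ N := Subgroup.le_normalizer
    have h1 := Subgroup.index_mul_card (P.subgroupOf N)
    rw [Nat.card_congr (Subgroup.subgroupOfEquivOfLe hPN).toEquiv, hPc, hNc] at h1
    exact Nat.eq_of_mul_eq_mul_right hp.pos h1
  rw [hrel] at hmul
  have heven : Even e := by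
    have h1 : Even (p - 1) := hpodd.tsub_odd odd_one
    rw [← hmul, Nat.even_mul] at h1
    exact h1.resolve_left hte
  have he2 : 2 ≤ e := by
    obtain ⟨r, hr⟩ := heven
    omega
  -- the order of y
  have hfree : ∀ n ∈ N, n ∉ P → ∀ g ∈ P, g * n = n * g → g = 1 := by
    intro n hn hnP g hg hgn
    by_contra hg1
    have h1 := H78.SelfCent2.centralizer_eq hp hx hC hg hg1
    apply hnP
    show n ∈ Subgroup.zpowers x
    rw [← h1, Subgroup.mem_centralizer_singleton_iff]
    exact hgn.symm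
  have hyP : ∀ k, 0 < k → k < e → y ^ k ∉ P := by
    intro k hk hke h
    rw [hye] at h
    have := Nat.le_of_dvd hk h
    omega
  have hye1 : y ^ e = 1 := by
    have h1 : y ^ e ∈ P := (hye e).mpr dvd_rfl
    have h2 : y ∉ P := by
      have := hyP 1 one_pos (by omega)
      rwa [pow_one] at this
    exact hfree y hy h2 _ h1 (by rw [← pow_succ, ← pow_succ'])
  have hcl : ∀ g h, ρ.character (h * g * h⁻¹) = ρ.character g :=
    H18.CharBasic.isClassFunction_of_isIrr hirr
  have hχ1 : ρ.character 1 = n := by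
    rw [Representation.char_one]
    simp
  -- multiplicities
  obtain ⟨b, hb, hb0⟩ := sum_sub ρ P
  obtain ⟨c2, hc2, -⟩ := sum_sub ρ N
  obtain ⟨bs, μ, hμ1, hμ2, hμ3⟩ := H4.Eigen.exists_eigen ρ (Nat.pos_iff_ne_zero.mp hepos) hye1
  have hc1 := H81.EigenCount.card_eigen (Nat.pos_iff_ne_zero.mp hepos) μ hμ2 (one_pow e)
  set c1 := (Finset.univ.filter (fun i => μ i = 1)).card with hc1def
  have hc1' : ∑ k ∈ Finset.range e, ρ.character (y ^ k) = e * c1 := by
    rw [hc1]
    refine Finset.sum_congr rfl fun k _ => ?_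
    rw [hμ3, inv_one, one_pow, one_mul]
  have hcoset : ∀ k, 0 < k → k < e → ∑ g : P, ρ.character ((g : G) * y ^ k) = p * ρ.character (y ^ k) := by
    intro k hk hke
    rw [coset_sum ρ.character hcl P (y ^ k) (N.pow_mem hy k) (hfree _ (N.pow_mem hy k) (hyP k hk hke)), hPc]
  have hNsum : ∑ n : N, ρ.character (n : G) = ∑ k ∈ Finset.range e, ∑ g : P, ρ.character ((g : G) * y ^ k) := by
    rw [← (Function.Bijective.sum_comp (⟨hΦinj, hΦsurj⟩ : Function.Bijective Φ) (fun n : N => ρ.character (n : G))),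
      Fintype.sum_prod_type, Finset.sum_range]
  have hsplit : ∀ f : ℕ → ℂ, ∑ k ∈ Finset.range e, f k = f 0 + ∑ k ∈ Finset.Ico 1 e, f k := by
    intro f
    rw [Finset.range_eq_Ico, Finset.sum_eq_sum_Ico_succ_bot hepos]
  have hdvd : e ∣ b := by
    have h1 : ∑ k ∈ Finset.Ico 1 e, ∑ g : P, ρ.character ((g : G) * y ^ k) =
        p * ∑ k ∈ Finset.Ico 1 e, ρ.character (y ^ k) := by
      rw [Finset.mul_sum]
      refine Finset.sum_congr rfl fun k hk => ?_
      rw [Finset.mem_Ico] at hk
      exact hcoset k hk.1 hk.2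
    rw [hsplit] at hNsum hc1'
    rw [h1, hc2, hNc] at hNsum
    simp only [pow_zero, mul_one] at hNsum hc1'
    rw [hb, hPc] at hNsum
    rw [hχ1] at hc1'
    have hpC : (p : ℂ) ≠ 0 := by exact_mod_cast hp.pos.ne'
    have h2 : ∑ k ∈ Finset.Ico 1 e, ρ.character (y ^ k) = e * c1 - n := by
      rw [← hc1']; ring
    rw [h2] at hNsum
    have h3 : (p : ℂ) * (e * c2 + n) = p * (b + e * c1) := by
      push_cast at hNsum
      linear_combination hNsum
    have h4 := mul_left_cancel₀ hpC h3
    have h5 : e * c2 + n = b + e * c1 := by exact_mod_cast h4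
    have h6 : n = t * e := by omega
    rw [h6] at h5
    have h7 : e ∣ b + e * c1 := by
      rw [← h5]
      exact dvd_add (dvd_mul_right _ _) (dvd_mul_left _ _)
    exact (Nat.dvd_add_left (dvd_mul_right e c1)).mp h7
  -- Bessel
  have hb00 : b = 0 := by
    have hmcard := H78.SelfCent2.card_orderOf_prime (G := G) hp
    have hmidx := H78.SelfCent.card_eq_index hp hx hC
    set m := Nat.card {H : Subgroup G // Nat.card H = p} with hm
    have hmpos : 0 < m := by
      rw [hmidx]
      exact Nat.pos_of_ne_zero Subgroup.index_ne_zero_of_finite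
    have hn0 : Nat.card G = m * (p * e) := by
      rw [← Subgroup.index_mul_card N, hNc, ← hmidx, mul_comm e p]
    have hχne : ρ.character ≠ fun _ => 1 := by
      intro h
      have h1 := congrFun h 1
      rw [hχ1] at h1
      have h2 : n = 1 := by exact_mod_cast h1
      rw [h2] at hn
      rw [← hn] at hpodd
      exact absurd hpodd (by decide)
    have hS : ∀ g : G, orderOf g = p →
        ∑ j ∈ Finset.Ico 1 p, ρ.character (g ^ j) = (((p : ℤ) * b - (p - 1 : ℕ) : ℤ) : ℂ) := by
      intro g hg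
      obtain ⟨c, hc⟩ := H78.SelfCent2.exists_conj hp hx hC hg
      set g' := c * g * c⁻¹ with hg'
      have ho : orderOf g' = p := by
        rw [← hg]
        exact (MulAut.conj c).orderOf_eq g
      have hg1 : g' ≠ 1 := by
        intro h
        rw [h, orderOf_one] at ho
        exact hp.one_lt.ne ho
      have hz : Subgroup.zpowers g' = P := H78.SelfCent2.zpowers_eq hp hx hc hg1
      have h1 : ∀ j : ℕ, ρ.character (g ^ j) = ρ.character (g' ^ j) := by
        intro j
        rw [hg', conj_pow, hcl]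
      rw [Finset.sum_congr rfl (fun j _ => h1 j)]
      have h2 : ∑ j ∈ Finset.range p, ρ.character (g' ^ j) = p * b := by
        have h3 : ∑ h : P, ρ.character (h : G) = ∑ j : Fin p, ρ.character (g' ^ (j : ℕ)) := by
          let Ψ : Fin p → P := fun j => ⟨g' ^ (j : ℕ), P.pow_mem hc _⟩
          have hΨ : Function.Injective Ψ := by
            intro a b hab
            have h4 : g' ^ (a : ℕ) = g' ^ (b : ℕ) := congrArg Subtype.val hab
            rw [pow_inj_mod, ho, Nat.mod_eq_of_lt a.2, Nat.mod_eq_of_lt b.2] at h4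
            exact Fin.ext h4
          have hΨb : Function.Bijective Ψ := by
            rw [Fintype.bijective_iff_injective_and_card]
            refine ⟨hΨ, ?_⟩
            rw [Fintype.card_fin, ← Nat.card_eq_fintype_card, hPc]
          rw [← hΨb.sum_comp (fun h : P => ρ.character (h : G))]
        rw [Finset.sum_range, ← h3, hb, hPc]
      rw [Finset.range_eq_Ico, Finset.sum_eq_sum_Ico_succ_bot hp.pos, pow_zero, hχ1] at h2
      have h5 : (n : ℂ) = ((p - 1 : ℕ) : ℂ) := by
        have h6 : n = p - 1 := by omega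
        exact_mod_cast h6
      rw [Int.cast_sub, Int.cast_mul, Int.cast_natCast, Int.cast_natCast, Int.cast_natCast]
      rw [zero_add] at h2
      linear_combination h2 - h5
    have hbes := bessel hp hx hC hirr hχne _ hS m hmcard hmpos
    exact arith hp hmul he2 hmpos hn0 hdvd hbes
  -- vanishing
  have hvan : ∀ k, 0 < k → k < e → ∑ i, μ i ^ k = 0 := by
    intro k hk hke
    rw [← hμ3]
    have h1 := hb0 hb00 (y ^ k)
    rw [hcoset k hk hke] at h1
    exact (mul_eq_zero.mp h1).resolve_left (by exact_mod_cast hp.pos.ne')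
  have hdet : LinearMap.det (ρ y) = -1 := by
    rw [H81.EigenCount.det_eq_prod (ρ y) bs μ hμ1]
    refine det_neg heven (Nat.pos_iff_ne_zero.mp hepos) hte μ hμ2 ?_ hvan
    rw [Module.finrank_fin_fun]
    omega
  -- the determinant
  let dt : G →* ℂˣ := MonoidHom.toHomUnits ((LinearMap.det : _ →* ℂ).comp ρ)
  have hdt : dt y = -1 := by
    apply Units.ext
    exact hdet
  have h2 : orderOf (dt y) = 2 := by
    rw [hdt]
    apply orderOf_eq_prime
    · rw [neg_one_sq]
    · intro h
      have h3 := congrArg Units.val h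
      rw [Units.val_neg, Units.val_one] at h3
      norm_num at h3
  have h3 : 2 ∣ Nat.card (Abelianization G) := by
    rw [← h2]
    have h4 : dt y = Abelianization.lift dt (Abelianization.of y) := (Abelianization.lift_apply_of dt y).symm
    rw [h4]
    exact (orderOf_map_dvd _ _).trans (orderOf_dvd_natCard _)
  exact even_iff_two_dvd.mpr h3

end H86.ParityDet
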