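import Mathlib
import Cfsg.Agent.Lib.H86.U3AutB

/-! Automorphisms of `U` squaring to something trivial on `U/Z(U)` are trivial on `Z(U)`. -/

set_option autoImplicit false

namespace H86.U3AutC

open Cfsg H7.QuadExt H7.UnitSU H24.U3Syl H86.U3AutA H86.U3AutB

variable {K : Type*} [Field K] [Fintype K] {q : ℕ}

theorem frob_ne (hK : Fintype.card K = q ^ 2) {n : ℕ} (hq : q = 2 ^ n) {r : ℕ} (hr0 : 0 < r)
    (hr : r < 2 * n) : ¬ ∀ a : K, a ^ 2 ^ r = a := by
  intro h
  obtain ⟨g, hg⟩ := IsCyclic.exists_generator (α := Kˣ)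
  have ho : orderOf g = 2 ^ (2 * n) - 1 := by
    rw [orderOf_eq_card_of_forall_mem_zpowers hg, Nat.card_units, Nat.card_eq_fintype_card, hK, hq,
      ← pow_mul, mul_comm]
  have hpos : 0 < 2 ^ r := by positivity
  have h1 : g ^ (2 ^ r - 1) = 1 := by
    have h2 : g ^ 2 ^ r = g := Units.ext (by rw [Units.val_pow_eq_pow_val]; exact h g)
    have h3 : g ^ (2 ^ r - 1) * g = g := by
      rw [← pow_succ, Nat.sub_add_cancel hpos, h2]
    exact mul_eq_right.mp h3
  have h2 := orderOf_dvd_of_pow_eq_one h1
  rw [ho] at h2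
  have h3 : 2 ^ 1 ≤ 2 ^ r := Nat.pow_le_pow_right (by norm_num) hr0
  have h4 := Nat.le_of_dvd (by omega) h2
  have h5 : 2 ^ r < 2 ^ (2 * n) := Nat.pow_lt_pow_right (by norm_num) hr
  omega

theorem pow_full (hK : Fintype.card K = q ^ 2) {n : ℕ} (hq : q = 2 ^ n) (a : K) :
    a ^ 2 ^ (2 * n) = a := by
  have : 2 ^ (2 * n) = Fintype.card K := by rw [hK, hq, ← pow_mul, mul_comm]
  rw [this, FiniteField.pow_card]

variable (two : (2 : K) = 0) (hK : Fintype.card K = q ^ 2)

/-- the key lemma -/
theorem fix_center {n : ℕ} (hq : q = 2 ^ n) (g : MulAut (U two hK))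
    (h2 : ∀ x, pa two hK (g (g x)) = pa two hK x) (x : U two hK) (hx : pa two hK x = 0) :
    g x = x := by
  obtain ⟨c, hc, i, hi, h3, h4⟩ := aut_form two hK hq g
  have hgx : pa two hK (g x) = 0 := (map_center two hK g x).mpr hx
  have key : ∀ a : K, c * (c * a ^ 2 ^ i) ^ 2 ^ i = a := by
    intro a
    have := h2 (sec two hK a)
    rw [h3, h3, pa_sec] at this
    exact this
  have h1 : c * c ^ 2 ^ i = 1 := by
    have := key 1
    rw [one_pow, mul_one] at this
    exact this
  have h5 : ∀ a : K, a ^ 2 ^ (i + i) = a := by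
    intro a
    have := key a
    rw [mul_pow, ← mul_assoc, h1, one_mul, ← pow_mul, ← pow_add] at this
    exact this
  have hi' : i = 0 ∨ i = n := by
    by_contra hcon
    push Not at hcon
    rcases Nat.lt_or_ge i n with h | h
    · exact frob_ne hK hq (r := i + i) (by omega) (by omega) h5
    · apply frob_ne hK hq (r := i + i - 2 * n) (by omega) (by omega)
      intro a
      have e : i + i = 2 * n + (i + i - 2 * n) := by omega
      have := h5 a
      rw [e, pow_add, pow_mul, pow_full hK hq] at this
      exact this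
  apply ext_ab two hK
  · rw [hgx, hx]
  · rw [h4 x hx]
    rcases hi' with rfl | rfl
    · rw [pow_zero, pow_one] at h1
      rw [pow_zero, pow_one]
      have hc1 : c = 1 := by
        have : (c - 1) * (c - 1) = 0 := by linear_combination h1 - (c - 1) * two
        have := mul_self_eq_zero.mp this
        linear_combination this
      rw [hc1, one_pow, one_mul]
    · rw [← hq] at h1 ⊢
      rw [pow_succ, mul_comm (c ^ q) c, h1, one_mul, pb_center two hK hx]

/-- S3315 -/
theorem overgroup {R : Type*} [Group R] [Finite R] {n : ℕ} (hq : q = 2 ^ n)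
    (S' : Subgroup R) (e : S' ≃* U two hK) (hidx : S'.index = 2) :
    (Subgroup.center ↥S').map S'.subtype ≤ Subgroup.center R := by
  haveI : S'.Normal := Subgroup.normal_of_index_eq_two hidx
  rintro _ ⟨z, hz, rfl⟩
  rw [Subgroup.mem_center_iff]
  intro r
  have hz' : (z : S') ∈ Subgroup.center S' := hz
  by_cases hr : r ∈ S'
  · exact congrArg Subtype.val (Subgroup.mem_center_iff.mp hz' ⟨r, hr⟩)
  · -- conjugation by r
    set g : MulAut (U two hK) := MulAut.congr e (MulAut.conjNormal r) with hg
    have hgx : ∀ x : S', g (e x) = e (MulAut.conjNormal r x) := by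
      intro x
      show e ((MulAut.conjNormal r) (e.symm (e x))) = _
      rw [e.symm_apply_apply]
    have hrr : r * r ∈ S' := Subgroup.mul_self_mem_of_index_two hidx r
    have h2 : ∀ x, pa two hK (g (g x)) = pa two hK x := by
      intro x
      obtain ⟨x, rfl⟩ := e.surjective x
      rw [hgx, hgx]
      have h3 : MulAut.conjNormal r (MulAut.conjNormal r x) = (⟨r * r, hrr⟩ : S') * x * (⟨r * r, hrr⟩ : S')⁻¹ := by
        apply Subtype.ext
        rw [MulAut.conjNormal_apply, MulAut.conjNormal_apply]
        show r * (r * x * r⁻¹) * r⁻¹ = (r * r) * x * (r * r)⁻¹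
        group
      rw [h3, map_mul, map_mul, map_inv, pa_mul, pa_mul, pa_inv]
      linear_combination pa two hK (e ⟨r * r, hrr⟩) * two
    have hez : pa two hK (e z) = 0 := by
      rw [← mem_center]
      rw [Subgroup.mem_center_iff] at hz' ⊢
      intro y
      obtain ⟨y, rfl⟩ := e.surjective y
      rw [← map_mul, hz' y, map_mul]
    have h4 := fix_center two hK hq g h2 (e z) hez
    rw [hgx] at h4
    have h5 := congrArg Subtype.val (e.injective h4)
    rw [MulAut.conjNormal_apply] at h5
    rw [mul_inv_eq_iff_eq_mul] at h5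
    exact h5

/-- S3156 -/
theorem no_S3 (hq : q = 4) (ρ t : MulAut (U two hK)) (hρ3 : ρ * ρ * ρ = 1) (ht : t * t = 1)
    (htr : t * ρ * t⁻¹ = ρ⁻¹) : ρ = 1 := by
  have hq' : q = 2 ^ 2 := by rw [hq]; norm_num
  have htf := fix_center two hK hq' t (fun x => by
    have : t (t x) = (t * t) x := rfl
    rw [this, ht]; rfl)
  have hρz : ∀ x, pa two hK x = 0 → ρ x = x := by
    intro x hx
    have h1 : (t * ρ * t⁻¹) x = ρ⁻¹ x := by rw [htr]
    have h2 : t⁻¹ x = x := by
      have := htf x hx
      rw [MulAut.inv_apply, MulEquiv.symm_apply_eq]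
      exact this.symm
    have h3 : (t * ρ * t⁻¹) x = t (ρ (t⁻¹ x)) := rfl
    rw [h3, h2, htf (ρ x) ((map_center two hK ρ x).mpr hx)] at h1
    have h4 : ρ (ρ x) = x := by
      rw [h1]
      exact ρ.apply_symm_apply x
    have h5 : ρ (ρ (ρ x)) = x := by
      have : (ρ * ρ * ρ) x = x := by rw [hρ3]; rfl
      exact this
    rw [h4] at h5
    exact h5
  obtain ⟨c, hc, i, hi, h3, h4⟩ := aut_form two hK hq' ρ
  have hb : ∀ b : K, b ^ q = b → c ^ (q + 1) * b ^ 2 ^ i = b := by
    intro b hb
    have h1 : pa two hK (cen two hK b) = 0 := by rw [cen_eq two hK hb]; rfl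
    have h2 : pb two hK (cen two hK b) = b := by rw [cen_eq two hK hb]; rfl
    have := h4 _ h1
    rw [hρz _ h1, h2] at this
    exact this.symm
  have hN : c ^ (q + 1) = 1 := by
    have := hb 1 (one_pow q)
    rw [one_pow, mul_one] at this
    exact this
  have hb' : ∀ b : K, b ^ q = b → b ^ 2 ^ i = b := by
    intro b h
    have := hb b h
    rw [hN, one_mul] at this
    exact this
  -- i is even
  have hnot : ¬ ∀ b : K, b ^ q = b → b ^ 2 = b := by
    intro h
    have hc4 := card_fixed hK
    have hsub : Nat.card {x : K // x ^ q = x} ≤ 2 := by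
      classical
      have h5 : ∀ x : {x : K // x ^ q = x}, x.1 = 0 ∨ x.1 = 1 := by
        rintro ⟨x, hx⟩
        have := h x hx
        have h6 : x * (x - 1) = 0 := by linear_combination this
        rcases mul_eq_zero.mp h6 with h7 | h7
        · exact Or.inl h7
        · right; linear_combination h7
      have : Nat.card {x : K // x ^ q = x} ≤ Nat.card Bool := by
        apply Nat.card_le_card_of_injective (fun x => decide (x.1 = 0))
        intro x y hxy
        have hxy' : decide (x.1 = 0) = decide (y.1 = 0) := hxy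
        rw [decide_eq_decide] at hxy'
        apply Subtype.ext
        rcases h5 x with hx | hx <;> rcases h5 y with hy | hy
        · rw [hx, hy]
        · exfalso; exact one_ne_zero (hy.symm.trans (hxy'.mp hx))
        · exfalso; exact one_ne_zero (hx.symm.trans (hxy'.mpr hy))
        · rw [hx, hy]
      rw [Nat.card_eq_fintype_card (α := Bool), Fintype.card_bool] at this
      exact this
    rw [hc4, hq] at hsub
    omega
  have hρpa : ∀ x, pa two hK (ρ x) = pa two hK x := by
    intro x
    interval_cases i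
    · -- i = 0
      have hc3 : c * c * c = 1 := by
        have h5 : (ρ * ρ * ρ) (sec two hK 1) = sec two hK 1 := by rw [hρ3]; rfl
        have h6 : pa two hK (ρ (ρ (ρ (sec two hK 1)))) = pa two hK (sec two hK 1) := congrArg _ h5
        rw [h3, h3, h3, pa_sec] at h6
        simp only [pow_zero, pow_one, mul_one] at h6
        linear_combination h6
      have hc1 : c = 1 := by
        rw [hq] at hN
        have : c ^ (4 + 1) = c * c * c * (c * c) := by ring
        rw [this, hc3, one_mul] at hN
        rw [hN, one_mul] at hc3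
        exact hc3
      rw [h3, hc1, pow_zero, pow_one, one_mul]
    · exact absurd (fun b h => by simpa using hb' b h) hnot
    · -- i = 2
      have hsq : ∀ y, pa two hK (ρ (ρ y)) = pa two hK y := by
        intro y
        rw [h3, h3, mul_pow, ← mul_assoc, ← pow_mul, ← pow_add]
        have e1 : c * c ^ 2 ^ 2 = 1 := by
          rw [← hN, hq]; ring
        have e2 := pow_full hK hq' (pa two hK y)
        rw [e1, one_mul]
        exact e2
      have h5 : (ρ * ρ * ρ) x = x := by rw [hρ3]; rfl
      have h6 : pa two hK (ρ (ρ (ρ x))) = pa two hK x := congrArg _ h5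
      rw [hsq] at h6
      exact h6
    · exfalso
      apply hnot
      intro b h
      have h5 := hb' b h
      have h6 : b ^ 2 ^ 3 = (b ^ q) ^ 2 := by rw [hq]; ring
      rw [h6, h] at h5
      exact h5
  -- ρ x = x z
  ext1 x
  set z := x⁻¹ * ρ x with hz
  have hz0 : pa two hK z = 0 := by
    rw [hz, pa_mul, pa_inv, hρpa]
    linear_combination pa two hK x * two
  have hx : ρ x = x * z := by rw [hz]; group
  have h7 : ρ (ρ (ρ x)) = x * z * z * z := by
    rw [hx, map_mul, map_mul, hx, hρz z hz0, map_mul, hρz z hz0, hx]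
  have h8 : ρ (ρ (ρ x)) = x := by
    have : (ρ * ρ * ρ) x = x := by rw [hρ3]; rfl
    exact this
  rw [h8] at h7
  have hzz : z * z = 1 := by
    have := sq_eq two hK z
    apply ext_ab two hK
    · rw [this.1, pa_one]
    · rw [this.2, hz0, pb_one, zero_pow (by omega)]
  have h9 : z = 1 := by
    have : x * z * z * z = x * (z * z) * z := by group
    rw [this, hzz, mul_one] at h7
    exact (left_eq_mul.mp h7)
  rw [hx, h9, mul_one]
  rfl

end H86.U3AutC
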